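import Mathlib

/-!
# Top-dimensional primes are counted by the colength of a system of parameters
-/

universe u

namespace Groth.Agent.TopPrimesLength

open IsLocalRing
open Pointwise

variable {R : Type u} [CommRing R]

theorem dim_lt_of_lt {p p' : Ideal R} [p.IsPrime] (h : p < p') (d : ℕ) (hp' : (d : WithBot ℕ∞) ≤ ringKrullDim (R ⧸ p')) :
    ((d + 1 : ℕ) : WithBot ℕ∞) ≤ ringKrullDim (R ⧸ p) := by
  rw [ringKrullDim_quotient] at hp' ⊢
  obtain ⟨l, hl⟩ := Order.le_krullDim_iff.1 hp'
  have hmem : ∀ i, (l i).1 ∈ PrimeSpectrum.zeroLocus (p : Set R) := fun i =>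
    (PrimeSpectrum.mem_zeroLocus _ _).2 ((SetLike.coe_subset_coe.2 h.le).trans (l i).2)
  let a : PrimeSpectrum.zeroLocus (R := R) (p : Set R) := ⟨⟨p, inferInstance⟩, fun _ hx => hx⟩
  let l' : LTSeries (PrimeSpectrum.zeroLocus (R := R) (p : Set R)) :=
    ⟨l.length, fun i => ⟨(l i).1, hmem i⟩, fun i => l.step i⟩
  refine Order.le_krullDim_iff.2 ⟨l'.cons a ?_, ?_⟩
  · show p < (l 0).1.asIdeal
    exact lt_of_lt_of_le h (SetLike.coe_subset_coe.1 ((PrimeSpectrum.mem_zeroLocus _ _).1 (l 0).2))
  · simp [l', hl]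

theorem exists_prime_of_le_dim {J : Ideal R} {n : ℕ} (h : (n : WithBot ℕ∞) ≤ ringKrullDim (R ⧸ J)) :
    ∃ q : Ideal R, q.IsPrime ∧ J ≤ q ∧ (n : WithBot ℕ∞) ≤ ringKrullDim (R ⧸ q) := by
  rw [ringKrullDim_quotient] at h
  obtain ⟨s, hs⟩ := Order.le_krullDim_iff.1 h
  refine ⟨s.head.1.asIdeal, s.head.1.isPrime, (PrimeSpectrum.mem_zeroLocus _ _).1 s.head.2, ?_⟩
  rw [ringKrullDim_quotient]
  exact Order.le_krullDim_iff.2 ⟨⟨s.length, fun i => ⟨(s i).1,
    (PrimeSpectrum.mem_zeroLocus _ _).2 (s.monotone (Fin.zero_le i))⟩, fun i => s.step i⟩, hs⟩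

variable [IsNoetherianRing R] [IsLocalRing R]

/-- A bound from parameters. -/
theorem dim_le_of_parameters {J : Ideal R} {s : ℕ} (g : Fin s → R) (hg : ∀ i, g i ∈ maximalIdeal R)
    (h : maximalIdeal R ≤ (J ⊔ Ideal.span (Set.range g)).radical) :
    ringKrullDim (R ⧸ J) ≤ (s : WithBot ℕ∞) := by
  classical
  rcases subsingleton_or_nontrivial (R ⧸ J) with hJ | hJ
  · rw [ringKrullDim_eq_bot_of_subsingleton]; exact bot_le
  haveI : IsLocalRing (R ⧸ J) := IsLocalRing.of_surjective' _ Ideal.Quotient.mk_surjective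
  let T : Finset (R ⧸ J) := Finset.univ.image fun i => Ideal.Quotient.mk J (g i)
  have hT : (T : Set (R ⧸ J)) ⊆ Ring.jacobson (R ⧸ J) := by
    intro x hx
    obtain ⟨i, -, rfl⟩ := Finset.mem_image.1 hx
    rw [SetLike.mem_coe, IsLocalRing.ringJacobson_eq_maximalIdeal]
    haveI := IsLocalHom.of_surjective (Ideal.Quotient.mk J) Ideal.Quotient.mk_surjective
    exact map_nonunit (Ideal.Quotient.mk J) (g i) (hg i)
  refine (ringKrullDim_le_ringKrullDim_quotient_add_card T hT).trans ?_
  have h0 : ringKrullDim ((R ⧸ J) ⧸ Ideal.span (T : Set (R ⧸ J))) ≤ 0 := by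
    rw [← Nat.cast_zero, ← Ring.krullDimLE_iff, Ring.krullDimLE_zero_iff]
    intro P hP
    let P' := P.comap ((Ideal.Quotient.mk (Ideal.span (T : Set (R ⧸ J)))).comp (Ideal.Quotient.mk J))
    haveI : P'.IsPrime := Ideal.IsPrime.comap _
    have hle : J ⊔ Ideal.span (Set.range g) ≤ P' := by
      refine sup_le (fun x hx => ?_) (Ideal.span_le.2 ?_)
      · rw [Ideal.mem_comap, RingHom.comp_apply, Ideal.Quotient.eq_zero_iff_mem.2 hx, map_zero]
        exact P.zero_mem
      · rintro _ ⟨i, rfl⟩
        rw [SetLike.mem_coe, Ideal.mem_comap, RingHom.comp_apply, Ideal.Quotient.eq_zero_iff_mem.2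
          (Ideal.subset_span (Finset.mem_coe.2 (Finset.mem_image_of_mem _ (Finset.mem_univ i))))]
        exact P.zero_mem
    have hm : P' = maximalIdeal R :=
      le_antisymm (le_maximalIdeal (Ideal.IsPrime.ne_top ‹_›))
        (h.trans (Ideal.IsPrime.isRadical ‹P'.IsPrime› |>.radical_le_iff.2 hle))
    have hsurj : Function.Surjective ((Ideal.Quotient.mk (Ideal.span (T : Set (R ⧸ J)))).comp (Ideal.Quotient.mk J)) :=
      Ideal.Quotient.mk_surjective.comp Ideal.Quotient.mk_surjective
    haveI : P'.IsMaximal := hm ▸ maximalIdeal.isMaximal R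
    rw [← Ideal.map_comap_of_surjective _ hsurj P]
    exact (Ideal.map_eq_top_or_isMaximal_of_surjective _ hsurj ‹P'.IsMaximal›).resolve_left (by
      rw [Ideal.map_comap_of_surjective _ hsurj P]; exact hP.ne_top)
  refine (add_le_add h0 le_rfl).trans ?_
  rw [zero_add, Nat.cast_le]
  exact Finset.card_image_le.trans (by simp)

omit [IsNoetherianRing R] [IsLocalRing R] in
theorem subsingleton_localized {M : Type u} [AddCommGroup M] [Module R M] (S : Submonoid R)
    (h : ∀ m : M, ∃ s ∈ S, s • m = 0) : Subsingleton (LocalizedModule S M) := by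
  refine subsingleton_of_forall_eq 0 fun z => ?_
  induction z using LocalizedModule.induction_on with
  | _ m s =>
    obtain ⟨t, ht, htm⟩ := h m
    rw [← LocalizedModule.zero_mk s, LocalizedModule.mk_eq]
    exact ⟨⟨t, ht⟩, by rw [smul_zero, smul_zero, Submonoid.smul_def, smul_comm, htm, smul_zero]⟩

/-- The total length at a finite set of primes. -/
noncomputable def totalLength (P : Finset (PrimeSpectrum R)) (M : Type u) [AddCommGroup M] [Module R M] : ℕ∞ :=
  ∑ p ∈ P, Module.length (Localization.AtPrime p.asIdeal) (LocalizedModule p.asIdeal.primeCompl M)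

omit [IsNoetherianRing R] [IsLocalRing R] in
theorem totalLength_of_exact (P : Finset (PrimeSpectrum R)) {N M Q : Type u} [AddCommGroup N] [Module R N]
    [AddCommGroup M] [Module R M] [AddCommGroup Q] [Module R Q] (f : N →ₗ[R] M) (g : M →ₗ[R] Q)
    (hf : Function.Injective f) (hg : Function.Surjective g) (h : Function.Exact f g) :
    totalLength P M = totalLength P N + totalLength P Q := by
  rw [totalLength, totalLength, totalLength, ← Finset.sum_add_distrib]
  refine Finset.sum_congr rfl fun p _ => ?_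
  exact Module.length_eq_add_of_exact (LocalizedModule.map p.asIdeal.primeCompl f)
    (LocalizedModule.map p.asIdeal.primeCompl g) (LocalizedModule.map_injective _ f hf)
    (LocalizedModule.map_surjective _ g hg) (LocalizedModule.map_exact _ f g h)

omit [IsLocalRing R] in
/-- A simple piece at `p`. -/
theorem exists_simple_quotient {M : Type u} [AddCommGroup M] [Module R M] [Module.Finite R M]
    (p : PrimeSpectrum R) [Nontrivial (LocalizedModule p.asIdeal.primeCompl M)] :
    ∃ N : Submodule R M, N ≠ ⊤ ∧ (∀ r ∈ p.asIdeal, ∀ m : M, r • m ∈ N) ∧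
      (∀ (s : R) (m : M), s ∉ p.asIdeal → s • m ∈ N → m ∈ N) ∧
      Module.length (Localization.AtPrime p.asIdeal) (LocalizedModule p.asIdeal.primeCompl (M ⧸ N)) ≤ 1 := by
  let A := Localization.AtPrime p.asIdeal
  let f := LocalizedModule.mkLinearMap p.asIdeal.primeCompl M
  obtain ⟨W, hW, -⟩ := (eq_top_or_exists_le_coatom
    (⊥ : Submodule A (LocalizedModule p.asIdeal.primeCompl M))).resolve_left bot_ne_top
  haveI hsimple : IsSimpleModule A (LocalizedModule p.asIdeal.primeCompl M ⧸ W) :=
    isSimpleModule_iff_isCoatom.2 hW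
  let N : Submodule R M := (W.restrictScalars R).comap f
  refine ⟨N, fun htop => hW.1 (eq_top_iff.2 fun z _ => ?_), fun r hr m => ?_, fun s m hs hsm => ?_, ?_⟩
  · induction z using LocalizedModule.induction_on with
    | _ m s =>
      have hm : f m ∈ W := by
        have : m ∈ N := htop ▸ Submodule.mem_top
        exact this
      have : LocalizedModule.mk m s = (Localization.mk 1 s : A) • f m := by
        show _ = _ • LocalizedModule.mk m 1
        rw [LocalizedModule.mk_smul_mk, one_smul, mul_one]
      rw [this]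
      exact W.smul_mem _ hm
  · show f (r • m) ∈ W
    rw [map_smul, ← IsScalarTower.algebraMap_smul A r (f m)]
    have hJ : IsLocalRing.maximalIdeal A ≤ Module.annihilator A (LocalizedModule p.asIdeal.primeCompl M ⧸ W) := by
      haveI := IsSimpleModule.annihilator_isMaximal (R := A) (M := LocalizedModule p.asIdeal.primeCompl M ⧸ W)
      exact (IsLocalRing.eq_maximalIdeal (R := A) ‹_›).ge
    have := Module.mem_annihilator.1 (hJ ((IsLocalization.AtPrime.to_map_mem_maximal_iff A p.asIdeal r).2 hr))
      (Submodule.Quotient.mk (f m))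
    rwa [← Submodule.Quotient.mk_smul, Submodule.Quotient.mk_eq_zero] at this
  · show f m ∈ W
    have hsm' : f (s • m) ∈ W := hsm
    rw [map_smul, ← IsScalarTower.algebraMap_smul A s (f m)] at hsm'
    exact (Submodule.smul_mem_iff_of_isUnit W (IsLocalization.map_units A (⟨s, hs⟩ : p.asIdeal.primeCompl))).1 hsm'
  · have hg := LocalizedModule.map_surjective p.asIdeal.primeCompl N.mkQ N.mkQ_surjective
    have hle : W ≤ LinearMap.ker (LocalizedModule.map p.asIdeal.primeCompl N.mkQ) := by
      intro z hz
      induction z using LocalizedModule.induction_on with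
      | _ m s =>
        have hm : m ∈ N := by
          show f m ∈ W
          have : f m = (algebraMap R A (s : R)) • LocalizedModule.mk m s := by
            show LocalizedModule.mk m 1 = _
            rw [IsScalarTower.algebraMap_smul, LocalizedModule.smul'_mk, LocalizedModule.mk_eq]
            exact ⟨1, by simp [Submonoid.smul_def]⟩
          rw [this]
          exact W.smul_mem _ hz
        rw [LinearMap.mem_ker, LocalizedModule.map_mk, Submodule.mkQ_apply,
          (Submodule.Quotient.mk_eq_zero N).2 hm, LocalizedModule.zero_mk]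
    calc _ ≤ Module.length A (LocalizedModule p.asIdeal.primeCompl M ⧸ W) :=
          Module.length_le_of_surjective (W.liftQ _ hle) (fun y => by
            obtain ⟨z, rfl⟩ := hg y
            exact ⟨Submodule.Quotient.mk z, rfl⟩)
      _ = 1 := Module.length_eq_one _ _

omit [IsLocalRing R] in
/-- Dévissage: the total length of `M` at `P` is bounded by that of `M/xM` at `Qs`. -/
theorem totalLength_le (P Qs : Finset (PrimeSpectrum R)) (x : R)
    (hP : ∀ p ∈ P, x ∉ p.asIdeal ∧ (∀ p' ∈ P, p.asIdeal ≤ p'.asIdeal → p = p') ∧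
      ∃ q ∈ Qs, p.asIdeal ≤ q.asIdeal ∧ x ∈ q.asIdeal) :
    ∀ (n : ℕ) (M : Type u) [AddCommGroup M] [Module R M] [Module.Finite R M],
      (n : ℕ∞) ≤ totalLength P M → (n : ℕ∞) ≤ totalLength Qs (QuotSMulTop x M) := by
  classical
  intro n
  induction n with
  | zero => intro M _ _ _ _; simp
  | succ n ih =>
    intro M _ _ _ hn
    obtain ⟨p, hp, hne⟩ : ∃ p ∈ P, Module.length (Localization.AtPrime p.asIdeal)
        (LocalizedModule p.asIdeal.primeCompl M) ≠ 0 := by
      by_contra hall
      push_neg at hall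
      rw [totalLength, Finset.sum_eq_zero hall] at hn
      simp at hn
    haveI : Nontrivial (LocalizedModule p.asIdeal.primeCompl M) :=
      not_subsingleton_iff_nontrivial.1 fun hs => hne (Module.length_eq_zero_iff.2 hs)
    obtain ⟨N, hNtop, hkill, hreg, hlen⟩ := exists_simple_quotient (M := M) p
    obtain ⟨hx, hanti, q, hq, hpq, hxq⟩ := hP p hp
    have hQ1 : totalLength P (M ⧸ N) ≤ 1 := by
      rw [totalLength, Finset.sum_eq_single p (fun p' hp' hne' => ?_) (fun h => absurd hp h)]
      · exact hlen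
      · rw [Module.length_eq_zero_iff]
        obtain ⟨r, hr, hr'⟩ := SetLike.not_le_iff_exists.1 (fun hle => hne' (hanti p' hp' hle).symm)
        refine subsingleton_localized _ fun z => ?_
        obtain ⟨m, rfl⟩ := Submodule.Quotient.mk_surjective N z
        exact ⟨r, hr', (Submodule.Quotient.mk_eq_zero N).2 (hkill r hr m)⟩
    have hN : (n : ℕ∞) ≤ totalLength P N := by
      rw [totalLength_of_exact P N.subtype N.mkQ N.injective_subtype N.mkQ_surjective
        (LinearMap.exact_subtype_mkQ N), Nat.cast_succ] at hn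
      exact (ENat.add_le_add_iff_right (by simp)).1 (hn.trans (add_le_add le_rfl hQ1))
    have h1 := ih N hN
    have hQpos : 1 ≤ totalLength Qs (QuotSMulTop x (M ⧸ N)) := by
      refine le_trans ?_ (Finset.single_le_sum (fun i _ => bot_le) hq)
      rw [ENat.one_le_iff_ne_zero, Ne, Module.length_eq_zero_iff]
      intro hsub
      let A := Localization.AtPrime q.asIdeal
      let L := LocalizedModule q.asIdeal.primeCompl (M ⧸ N)
      haveI : Nontrivial L := by
        obtain ⟨m, -, hm⟩ := SetLike.exists_of_lt hNtop.lt_top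
        refine nontrivial_of_ne (LocalizedModule.mk (Submodule.Quotient.mk m) 1) 0 fun h0 => ?_
        rw [← LocalizedModule.zero_mk 1, LocalizedModule.mk_eq] at h0
        obtain ⟨t, ht⟩ := h0
        simp only [one_smul, smul_zero, Submonoid.smul_def, ← Submodule.Quotient.mk_smul,
          Submodule.Quotient.mk_eq_zero] at ht
        exact hm (hreg t m (fun h => t.2 (hpq h)) ht)
      have htop : (⊤ : Submodule A L) ≤ Ideal.span {algebraMap R A x} • (⊤ : Submodule A L) := by
        intro z _
        induction z using LocalizedModule.induction_on with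
        | _ z s =>
          have hz : (LocalizedModule.mk ((x • (⊤ : Submodule R (M ⧸ N))).mkQ z) s :
              LocalizedModule q.asIdeal.primeCompl (QuotSMulTop x (M ⧸ N))) = LocalizedModule.mk 0 s :=
            Subsingleton.elim _ _
          rw [LocalizedModule.mk_eq] at hz
          obtain ⟨t, ht⟩ := hz
          simp only [smul_zero, Submonoid.smul_def, Submodule.mkQ_apply, ← Submodule.Quotient.mk_smul] at ht
          obtain ⟨w, -, hw⟩ := (Submodule.mem_smul_pointwise_iff_exists _ _ _).1
            ((Submodule.Quotient.mk_eq_zero _).1 (by first | exact ht | exact ht.symm))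
          have h2 : LocalizedModule.mk z s = algebraMap R A x • LocalizedModule.mk w (t * s * s) := by
            rw [IsScalarTower.algebraMap_smul, LocalizedModule.smul'_mk, hw, LocalizedModule.mk_eq]
            refine ⟨1, ?_⟩
            simp only [one_smul, Submonoid.smul_def, Submonoid.coe_mul, smul_smul]
            ring_nf
          rw [h2]
          exact Submodule.smul_mem_smul (Ideal.mem_span_singleton_self _) Submodule.mem_top
      have := Submodule.eq_bot_of_le_smul_of_le_jacobson_bot _ (⊤ : Submodule A L) Module.Finite.fg_top htop (by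
        rw [IsLocalRing.jacobson_eq_maximalIdeal ⊥ bot_ne_top, Ideal.span_le, Set.singleton_subset_iff]
        exact (IsLocalization.AtPrime.to_map_mem_maximal_iff A q.asIdeal x).2 hxq)
      exact top_ne_bot this
    have hregQ : IsSMulRegular (M ⧸ N) x := by
      rw [isSMulRegular_iff_right_eq_zero_of_smul]
      intro z hz
      obtain ⟨m, rfl⟩ := Submodule.Quotient.mk_surjective N z
      rw [← Submodule.Quotient.mk_smul, Submodule.Quotient.mk_eq_zero] at hz
      exact (Submodule.Quotient.mk_eq_zero N).2 (hreg x m hx hz)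
    rw [Nat.cast_succ]
    refine (add_le_add h1 hQpos).trans (le_of_eq ?_)
    refine (totalLength_of_exact Qs (QuotSMulTop.map x N.subtype) (QuotSMulTop.map x N.mkQ) ?_
      (QuotSMulTop.map_surjective x N.mkQ_surjective)
      (QuotSMulTop.map_exact x (LinearMap.exact_subtype_mkQ N) N.mkQ_surjective)).symm
    rw [injective_iff_map_eq_zero]
    intro z hz
    obtain ⟨z, rfl⟩ := Submodule.Quotient.mk_surjective _ z
    rw [QuotSMulTop.map_apply_mk, Submodule.Quotient.mk_eq_zero, Submodule.mem_smul_pointwise_iff_exists] at hz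
    obtain ⟨m, -, hm⟩ := hz
    have hmN : m ∈ N := hreg x m hx (by rw [hm]; exact z.2)
    rw [Submodule.Quotient.mk_eq_zero, Submodule.mem_smul_pointwise_iff_exists]
    exact ⟨⟨m, hmN⟩, trivial, Subtype.ext hm⟩

/-- Induction on the number of parameters. -/
theorem totalLength_le_length : ∀ (d : ℕ) (M : Type u) [AddCommGroup M] [Module R M] [Module.Finite R M]
    (I : Ideal R) (g : Fin d → R) (P : Finset (PrimeSpectrum R)), (∀ i, g i ∈ maximalIdeal R) →
      I ≤ Module.annihilator R M → maximalIdeal R ≤ (I ⊔ Ideal.span (Set.range g)).radical →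
      (∀ p ∈ P, I ≤ p.asIdeal ∧ (d : WithBot ℕ∞) ≤ ringKrullDim (R ⧸ p.asIdeal)) →
      totalLength P M ≤ Module.length R (M ⧸ Ideal.span (Set.range g) • (⊤ : Submodule R M)) := by
  classical
  intro d
  induction d with
  | zero =>
    intro M _ _ _ I g P _ hI hm hP
    have hspan : Ideal.span (Set.range g) • (⊤ : Submodule R M) = ⊥ := by
      rw [Set.range_eq_empty g, Ideal.span_empty, Submodule.bot_smul]
    rw [Set.range_eq_empty g, Ideal.span_empty, sup_bot_eq] at hm
    rw [(Submodule.quotEquivOfEqBot _ hspan).length_eq]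
    have hP' : P ⊆ {⟨maximalIdeal R, (maximalIdeal.isMaximal R).isPrime⟩} := fun p hp =>
      Finset.mem_singleton.2 (PrimeSpectrum.ext (le_antisymm (le_maximalIdeal p.isPrime.ne_top)
        (hm.trans (p.isPrime.isRadical.radical_le_iff.2 (hP p hp).1))))
    refine (Finset.sum_le_sum_of_subset hP').trans (le_of_eq_of_le (Finset.sum_singleton ..) ?_)
    let f := LocalizedModule.mkLinearMap (maximalIdeal R).primeCompl M
    have hsur : Function.Surjective (algebraMap R (Localization.AtPrime (maximalIdeal R))) :=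
      (IsLocalization.atUnits R (maximalIdeal R).primeCompl
        (fun x hx => IsUnit.mem_submonoid_iff _ |>.2 (IsLocalRing.notMem_maximalIdeal.1 hx)) (S := Localization.AtPrime (maximalIdeal R))).surjective
    rw [← Module.length_eq_of_surjective (S := R) hsur]
    refine Module.length_le_of_surjective f fun z => ?_
    obtain ⟨⟨m, s⟩, hz⟩ := IsLocalizedModule.surj (maximalIdeal R).primeCompl f z
    obtain ⟨v, hv⟩ : IsUnit (s : R)  := IsLocalRing.notMem_maximalIdeal.1 s.2
    refine ⟨(↑v⁻¹ : R) • m, ?_⟩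
    rw [map_smul, ← hz, Submonoid.smul_def, ← hv, smul_smul, Units.inv_mul, one_smul]
  | succ d ih =>
    intro M _ _ _ I g P hg hI hm hP
    let x := g 0
    let g' : Fin d → R := fun i => g i.succ
    have hsup : Ideal.span {x} ⊔ Ideal.span (Set.range g') = Ideal.span (Set.range g) := by
      rw [← Ideal.span_union, Set.union_comm]
      congr 1
      ext y
      simp [x, g', Fin.exists_fin_succ, eq_comm, or_comm]
    have hbound : ∀ J : Ideal R, I ⊔ Ideal.span {x} ≤ J → ringKrullDim (R ⧸ J) ≤ (d : WithBot ℕ∞) := fun J hJ =>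
      dim_le_of_parameters g' (fun i => hg _) (hm.trans (Ideal.radical_mono (by
        rw [← hsup, ← sup_assoc]; exact sup_le_sup_right hJ _)))
    have hboundI : ∀ J : Ideal R, I ≤ J → ringKrullDim (R ⧸ J) ≤ ((d + 1 : ℕ) : WithBot ℕ∞) := fun J hJ =>
      dim_le_of_parameters g hg (hm.trans (Ideal.radical_mono (sup_le_sup_right hJ _)))
    have hx : ∀ p ∈ P, x ∉ p.asIdeal := fun p hp hxp => by
      have := ((hP p hp).2).trans (hbound _ (sup_le (hP p hp).1 ((Ideal.span_singleton_le_iff_mem _).2 hxp)))
      rw [Nat.cast_le] at this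
      omega
    have hq : ∀ p : P, ∃ q : PrimeSpectrum R, p.1.asIdeal ≤ q.asIdeal ∧ x ∈ q.asIdeal ∧
        (d : WithBot ℕ∞) ≤ ringKrullDim (R ⧸ q.asIdeal) := by
      rintro ⟨p, hp⟩
      have hle : ((d : WithBot ℕ∞)) ≤ ringKrullDim (R ⧸ (p.asIdeal ⊔ Ideal.span {x})) := by
        haveI : IsLocalRing (R ⧸ p.asIdeal) :=
          haveI := Ideal.Quotient.nontrivial_iff.2 p.isPrime.ne_top
          IsLocalRing.of_surjective' _ Ideal.Quotient.mk_surjective
        have h1 := (hP p hp).2.trans (ringKrullDim_le_ringKrullDim_quotient_add_card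
          ({Ideal.Quotient.mk p.asIdeal x} : Finset (R ⧸ p.asIdeal)) (by
            rw [Finset.coe_singleton, Set.singleton_subset_iff, SetLike.mem_coe,
              IsLocalRing.ringJacobson_eq_maximalIdeal]
            haveI := IsLocalHom.of_surjective (Ideal.Quotient.mk p.asIdeal) Ideal.Quotient.mk_surjective
            exact map_nonunit (Ideal.Quotient.mk p.asIdeal) x (hg 0)))
        rw [Finset.coe_singleton, Finset.card_singleton, Nat.cast_succ] at h1
        have e := DoubleQuot.quotQuotEquivQuotSup p.asIdeal (Ideal.span {x})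
        rw [Ideal.map_span, Set.image_singleton] at e
        rw [ringKrullDim_eq_of_ringEquiv e] at h1
        revert h1
        generalize ringKrullDim (R ⧸ (p.asIdeal ⊔ Ideal.span {x})) = D
        intro h1
        induction D using WithBot.recBotCoe with
        | bot => rw [WithBot.bot_add, le_bot_iff] at h1; exact absurd h1 (by simp)
        | coe e =>
          rw [← Nat.cast_one (R := WithBot ℕ∞)] at h1
          change (((d : ℕ∞) + 1 : ℕ∞) : WithBot ℕ∞) ≤ ((e + 1 : ℕ∞) : WithBot ℕ∞) at h1
          exact WithBot.coe_le_coe.2 ((ENat.add_le_add_iff_right (by simp)).1 (WithBot.coe_le_coe.1 h1))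
      obtain ⟨q, hqp, hpq, hdq⟩ := exists_prime_of_le_dim hle
      exact ⟨⟨q, hqp⟩, le_sup_left.trans hpq,
        hpq (Submodule.mem_sup_right (Ideal.mem_span_singleton_self x)), hdq⟩
    choose q hq1 hq2 hq3 using hq
    let Qs : Finset (PrimeSpectrum R) := P.attach.image q
    have hdev : totalLength P M ≤ totalLength Qs (QuotSMulTop x M) := by
      refine ENat.forall_natCast_le_iff_le.1 fun n hn => totalLength_le P Qs x (fun p hp => ⟨hx p hp, ?_, ?_⟩) n M hn
      · intro p' hp' hle
        by_contra hne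
        have hlt : p.asIdeal < p'.asIdeal := lt_of_le_of_ne hle fun h => hne (PrimeSpectrum.ext h)
        have := (dim_lt_of_lt hlt (d + 1) (hP p' hp').2).trans (hboundI _ (hP p hp).1)
        rw [Nat.cast_le] at this
        omega
      · exact ⟨q ⟨p, hp⟩, Finset.mem_image_of_mem q (Finset.mem_attach P ⟨p, hp⟩), hq1 ⟨p, hp⟩, hq2 ⟨p, hp⟩⟩
    refine hdev.trans ((ih (QuotSMulTop x M) (I ⊔ Ideal.span {x}) g' Qs (fun i => hg _) ?_ ?_ ?_).trans ?_)
    · refine sup_le (hI.trans ((x • (⊤ : Submodule R M)).mkQ.annihilator_le_of_surjective (Submodule.mkQ_surjective _))) ?_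
      rw [Ideal.span_singleton_le_iff_mem, Module.mem_annihilator]
      intro z
      obtain ⟨z, rfl⟩ := Submodule.Quotient.mk_surjective _ z
      rw [← Submodule.Quotient.mk_smul, Submodule.Quotient.mk_eq_zero]
      exact Submodule.smul_mem_pointwise_smul _ _ _ Submodule.mem_top
    · rw [sup_assoc, hsup]; exact hm
    · intro q' hq'
      obtain ⟨p, -, rfl⟩ := Finset.mem_image.1 hq'
      exact ⟨sup_le ((hP p.1 p.2).1.trans (hq1 p)) ((Ideal.span_singleton_le_iff_mem _).2 (hq2 p)), hq3 p⟩
    · let π : M →ₗ[R] (QuotSMulTop x M ⧸ Ideal.span (Set.range g') • (⊤ : Submodule R (QuotSMulTop x M))) :=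
        (Submodule.mkQ _).comp (Submodule.mkQ _)
      have hπ : Function.Surjective π := (Submodule.mkQ_surjective _).comp (Submodule.mkQ_surjective _)
      refine Module.length_le_of_surjective ((Ideal.span (Set.range g) • (⊤ : Submodule R M)).liftQ π ?_) ?_
      · rw [← hsup, Submodule.sup_smul]
        refine sup_le ?_ ?_
        · rw [Submodule.ideal_span_singleton_smul]
          intro z hz
          show π z = 0
          rw [LinearMap.comp_apply, Submodule.mkQ_apply, Submodule.mkQ_apply,
            (Submodule.Quotient.mk_eq_zero _).2 hz, Submodule.Quotient.mk_zero]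
        · refine Submodule.smul_le.2 fun r hr z _ => ?_
          show π (r • z) = 0
          rw [LinearMap.comp_apply, map_smul, Submodule.mkQ_apply _ (r • _), Submodule.Quotient.mk_eq_zero]
          exact Submodule.smul_mem_smul hr Submodule.mem_top
      · intro y
        obtain ⟨z, rfl⟩ := hπ y
        exact ⟨Submodule.Quotient.mk z, rfl⟩

theorem card_le_length (d : ℕ) (g : Fin d → R) (hg : ∀ i, g i ∈ maximalIdeal R)
    (hsop : maximalIdeal R ≤ (Ideal.span (Set.range g)).radical) (s : Set (Ideal R))
    (hs : ∀ p ∈ s, p.IsPrime ∧ (d : WithBot ℕ∞) ≤ ringKrullDim (R ⧸ p)) (hfin : s.Finite) :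
    (s.ncard : ℕ∞) ≤ Module.length R (R ⧸ Ideal.span (Set.range g)) := by
  classical
  let P : Finset (PrimeSpectrum R) :=
    hfin.toFinset.attach.image fun p => ⟨p.1, (hs p.1 (hfin.mem_toFinset.1 p.2)).1⟩
  have hcard : s.ncard ≤ P.card := by
    rw [Finset.card_image_of_injective _ (fun a b h => Subtype.ext (congrArg PrimeSpectrum.asIdeal h)),
      Finset.card_attach, Set.ncard_eq_toFinset_card s hfin]
  have h := totalLength_le_length d R ⊥ g P hg bot_le (by rwa [bot_sup_eq]) (fun p hp => by
    obtain ⟨p', -, rfl⟩ := Finset.mem_image.1 hp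
    exact ⟨bot_le, (hs p'.1 (hfin.mem_toFinset.1 p'.2)).2⟩)
  rw [smul_eq_mul, Ideal.mul_top] at h
  refine (Nat.cast_le.2 hcard).trans (le_trans ?_ h)
  rw [Finset.card_eq_sum_ones, Nat.cast_sum]
  refine Finset.sum_le_sum fun p _ => ?_
  rw [Nat.cast_one, ENat.one_le_iff_ne_zero, Ne, Module.length_eq_zero_iff, not_subsingleton_iff_nontrivial]
  refine nontrivial_of_ne (LocalizedModule.mk (1 : R) 1) 0 fun h0 => ?_
  rw [← LocalizedModule.zero_mk 1, LocalizedModule.mk_eq] at h0
  obtain ⟨t, ht⟩ := h0
  simp [Submonoid.smul_def] at ht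
  exact t.2 (by rw [ht]; exact p.asIdeal.zero_mem)

end Groth.Agent.TopPrimesLength
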